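import Groth.Agent.CStk17.FibNode

/-!
# The two branches of the node model with parameter zero
-/

set_option autoImplicit false
set_option backward.isDefEq.respectTransparency false
set_option backward.isDefEq.respectTransparency.types false

universe u

open CategoryTheory CategoryTheory.Limits AlgebraicGeometry StrictSS

namespace Groth.Agent.CStk17.SSComp

open NodeModel MvPolynomial

variable (A : Type u) [CommRing A]

/-- The branch `coord i = 0`, with the other coordinate as parameter. -/
noncomputable def branchHom (i : Fin 2) : NodeAlg A (0 : A) →+* Polynomial A :=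
  Ideal.Quotient.lift _ (aeval (fun l => if l = i then (0 : Polynomial A) else Polynomial.X)).toRingHom
    (fun x hx => by
      obtain ⟨c, rfl⟩ := Ideal.mem_span_singleton'.1 hx
      fin_cases i <;> simp)

theorem branchHom_coord (i l : Fin 2) :
    branchHom A i (coord A 0 l) = if l = i then (0 : Polynomial A) else Polynomial.X := by
  show (aeval _ : MvPolynomial (Fin 2) A →ₐ[A] Polynomial A) (X l) = _
  rw [aeval_X]

theorem branchHom_algebraMap (i : Fin 2) :
    (branchHom A i).comp (algebraMap A (NodeAlg A (0 : A))) = Polynomial.C := by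
  refine RingHom.ext fun r => ?_
  show (aeval _ : MvPolynomial (Fin 2) A →ₐ[A] Polynomial A) (C r) = _
  rw [aeval_C]
  rfl

theorem branchHom_surjective (i : Fin 2) : Function.Surjective (branchHom A i) := by
  intro p
  refine ⟨Polynomial.eval₂ (algebraMap A _) (coord A 0 i.rev) p, ?_⟩
  rw [Polynomial.hom_eval₂, branchHom_algebraMap, branchHom_coord, if_neg (by fin_cases i <;> decide)]
  exact Polynomial.eval₂_C_X

theorem coord_self_dvd (i : Fin 2) (x : NodeAlg A (0 : A)) :
    x - Polynomial.eval₂ (algebraMap A _) (coord A 0 i.rev) (branchHom A i x) ∈ Ideal.span {coord A 0 i} := by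
  let q := Ideal.Quotient.mk (Ideal.span {coord A (0 : A) i})
  have h : q.comp ((Polynomial.eval₂RingHom (algebraMap A _) (coord A 0 i.rev)).comp (branchHom A i)) = q := by
    refine NodeModel.hom_ext A (0 : A) (T := NodeAlg A (0 : A) ⧸ Ideal.span {coord A (0 : A) i}) ?_ fun l => ?_
    · rw [RingHom.comp_assoc, RingHom.comp_assoc, branchHom_algebraMap]
      ext r
      simp
    · rcases eq_or_ne l i with rfl | hl
      · simp [branchHom_coord, q, Ideal.Quotient.eq_zero_iff_mem.2 (Ideal.mem_span_singleton_self _)]
      · have : l = i.rev := by fin_cases i <;> fin_cases l <;> simp_all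
        subst this
        simp [branchHom_coord, if_neg hl]
  exact Ideal.Quotient.eq.1 (RingHom.congr_fun h x).symm

/-- The branch as a morphism of schemes. -/
noncomputable def branch (i : Fin 2) :
    Spec (CommRingCat.of (Polynomial A)) ⟶ Spec (CommRingCat.of (NodeAlg A (0 : A))) :=
  Spec.map (CommRingCat.ofHom (branchHom A i))

instance (i : Fin 2) : IsClosedImmersion (branch A i) :=
  IsClosedImmersion.spec_of_surjective _ (branchHom_surjective A i)

theorem branch_comp (i : Fin 2) : branch A i ≫ nodeToBase A (0 : A) = lineToBase A := by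
  rw [branch, nodeToBase, lineToBase, ← Spec.map_comp, ← CommRingCat.ofHom_comp, branchHom_algebraMap]

theorem range_branch_union :
    Set.range (branch A 0) ∪ Set.range (branch A 1) = Set.univ := by
  refine Set.eq_univ_of_forall fun q => ?_
  have key : ∀ i : Fin 2, coord A (0 : A) i ∈ q.asIdeal → q ∈ Set.range (branch A i) := by
    intro i hi
    refine ⟨PrimeSpectrum.comap (Polynomial.eval₂RingHom (algebraMap A _) (coord A 0 i.rev)) q, ?_⟩
    refine PrimeSpectrum.ext (Ideal.ext fun x => ?_)
    show Polynomial.eval₂ (algebraMap A _) (coord A 0 i.rev) (branchHom A i x) ∈ q.asIdeal ↔ x ∈ q.asIdeal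
    have h := (Ideal.span_singleton_le_iff_mem (I := q.asIdeal)).2 hi (coord_self_dvd A i x)
    exact ⟨fun hy => by simpa using q.asIdeal.add_mem h hy,
      fun hx => by simpa using q.asIdeal.sub_mem hx h⟩
  rcases q.isPrime.mem_or_mem (show coord A 0 0 * coord A 0 1 ∈ q.asIdeal by
    rw [coord_mul]; exact (map_zero (algebraMap A (NodeAlg A (0 : A)))).symm ▸ q.asIdeal.zero_mem) with h | h
  · exact Or.inl (key 0 h)
  · exact Or.inr (key 1 h)

end Groth.Agent.CStk17.SSComp
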