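import Groth.Agent.H23.RedSub
import Groth.Agent.SchTop.Closed
import Groth.Agent.GrpSchLib.SmoothRegular
import Mathlib.AlgebraicGeometry.Noetherian
import Mathlib.AlgebraicGeometry.Morphisms.Smooth

/-!
# A component covered by two smooth closed subschemes is smooth
-/

set_option autoImplicit false
set_option backward.isDefEq.respectTransparency false
set_option backward.isDefEq.respectTransparency.types false

universe u

open CategoryTheory CategoryTheory.Limits AlgebraicGeometry TopologicalSpace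

namespace Groth.Agent.CStk17.SSComp

variable {k : Type u} [Field k]

theorem isDomain_stalk {X : Scheme.{u}} (f : X ⟶ Spec (CommRingCat.of k)) [Smooth f] (x : X) :
    IsDomain (X.presheaf.stalk x) :=
  haveI := GrpSchLib.isRegularLocalRing_stalk_of_smooth f x
  RegLoc6.isDomain_of_isRegularLocalRing _

theorem isReduced_of_smooth {X : Scheme.{u}} (f : X ⟶ Spec (CommRingCat.of k)) [Smooth f] : IsReduced X :=
  haveI : ∀ x : X, _root_.IsReduced (X.presheaf.stalk x) := fun x =>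
    haveI := isDomain_stalk f x
    inferInstance
  isReduced_of_isReduced_stalk X

/-- Local smoothness of a reduced component which near `w` lies in one of two smooth closed pieces. -/
theorem smooth_component_at {C W : Scheme.{u}} (φ : C ⟶ Spec (CommRingCat.of k)) (e : W ⟶ C)
    [IsClosedImmersion e] [IsReduced W] (hZ : Set.range e ∈ irreducibleComponents (C : Type u))
    (w : W) (U : C.Opens) (hU : IsAffineOpen U) (hw : e w ∈ U)
    {V : Fin 2 → Scheme.{u}} (g : ∀ l, V l ⟶ (U : Scheme.{u})) [∀ l, IsClosedImmersion (g l)]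
    (hcov : Set.range (g 0) ∪ Set.range (g 1) = Set.univ) (hsm : ∀ l, Smooth (g l ≫ U.ι ≫ φ)) :
    ∃ O : W.Opens, w ∈ O ∧ Smooth (O.ι ≫ e ≫ φ) := by
  let Z' : Set (U : Scheme.{u}) := U.ι ⁻¹' Set.range e
  have hZ' : Z' ∈ irreducibleComponents (U : Scheme.{u}) :=
    preimage_mem_irreducibleComponents hZ U.ι.isOpenEmbedding
      ⟨e w, ⟨w, rfl⟩, by rw [Scheme.Opens.range_ι]; exact hw⟩
  obtain ⟨l, hl⟩ : ∃ l, Z' ⊆ Set.range (g l) := by
    rcases isPreirreducible_iff_isClosed_union_isClosed.1 hZ'.1.2 _ _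
      (g 0).isClosedEmbedding.isClosed_range (g 1).isClosedEmbedding.isClosed_range
      (hcov.symm ▸ Set.subset_univ _) with h | h
    exacts [⟨0, h⟩, ⟨1, h⟩]
  haveI := hsm l
  haveI : IsAffine (U : Scheme.{u}) := hU
  haveI : IsAffine (V l) := isAffine_of_isAffineHom (g l)
  haveI : IsLocallyNoetherian (V l) := LocallyOfFiniteType.isLocallyNoetherian (g l ≫ U.ι ≫ φ)
  haveI : AlgebraicGeometry.IsNoetherian (V l) := {}
  haveI := isReduced_of_smooth (g l ≫ U.ι ≫ φ)
  have hZ'' : g l ⁻¹' Z' ∈ irreducibleComponents (V l) := by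
    refine ⟨⟨?_, ?_⟩, fun T hT hle => ?_⟩
    · obtain ⟨z, hz⟩ := hZ'.1.1
      obtain ⟨v, rfl⟩ := hl hz
      exact ⟨v, hz⟩
    · intro a b ha hb ⟨v, hv, hva⟩ ⟨v', hv', hvb⟩
      obtain ⟨a', ha', rfl⟩ := (g l).isClosedEmbedding.isInducing.isOpen_iff.1 ha
      obtain ⟨b', hb', rfl⟩ := (g l).isClosedEmbedding.isInducing.isOpen_iff.1 hb
      obtain ⟨z, hz, hzab⟩ := hZ'.1.2 a' b' ha' hb' ⟨g l v, hv, hva⟩ ⟨g l v', hv', hvb⟩
      obtain ⟨v'', rfl⟩ := hl hz
      exact ⟨v'', hz, hzab⟩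
    · intro v hv
      refine hZ'.2 (hT.image _ (g l).continuous.continuousOn).closure ?_ (subset_closure ⟨v, hv, rfl⟩)
      intro z hz
      obtain ⟨v', rfl⟩ := hl hz
      exact subset_closure ⟨v', hle hz, rfl⟩
  have hopen : IsOpen (g l ⁻¹' Z') := SchTop.isOpen_component_of_finite
    TopologicalSpace.NoetherianSpace.finite_irreducibleComponents (isDomain_stalk (g l ≫ U.ι ≫ φ)) hZ''
  let O' : (V l).Opens := ⟨g l ⁻¹' Z', hopen⟩
  haveI : IsImmersion (O'.ι ≫ g l) := inferInstance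
  haveI : IsReduced (O' : Scheme.{u}) := isReduced_of_isOpenImmersion O'.ι
  haveI : IsReduced ((e ⁻¹ᵁ U : W.Opens) : Scheme.{u}) := isReduced_of_isOpenImmersion (e ⁻¹ᵁ U).ι
  haveI : IsClosedImmersion (e ∣_ U) := IsZariskiLocalAtTarget.restrict ‹_› U
  have hr : Set.range (e ∣_ U) = Set.range (O'.ι ≫ g l) := by
    rw [Scheme.Hom.comp_base, TopCat.coe_comp, Set.range_comp, Scheme.Opens.range_ι]
    show _ = g l '' (g l ⁻¹' Z')
    rw [Set.image_preimage_eq_inter_range, Set.inter_eq_left.2 hl]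
    ext z
    constructor
    · rintro ⟨v, rfl⟩
      refine ⟨(e ⁻¹ᵁ U).ι v, ?_⟩
      rw [← Scheme.Hom.comp_apply, ← morphismRestrict_ι]
      rfl
    · rintro ⟨v, hv⟩
      have hvU : e v ∈ U := by rw [hv]; exact z.2
      refine ⟨⟨v, hvU⟩, U.ι.isEmbedding.injective ?_⟩
      rw [← Scheme.Hom.comp_apply, morphismRestrict_ι]
      exact hv
  obtain ⟨ε, hε⟩ := H23.RedSub.exists_iso_of_range_eq (e ∣_ U) (O'.ι ≫ g l) hr
  refine ⟨e ⁻¹ᵁ U, hw, ?_⟩
  rw [← morphismRestrict_ι_assoc, ← hε, Category.assoc, Category.assoc]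
  infer_instance

end Groth.Agent.CStk17.SSComp
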