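import Groth.Agent.CStk17.SSComp.Branch
import Groth.Agent.CStk17.SSComp.Local

/-!
# Components of a strictly semistable curve over a field are smooth
-/

set_option autoImplicit false
set_option backward.isDefEq.respectTransparency false
set_option backward.isDefEq.respectTransparency.types false

universe u

open CategoryTheory CategoryTheory.Limits AlgebraicGeometry StrictSS TopologicalSpace

namespace Groth.Agent.CStk17.SSComp

variable {k : Type u} [Field k]

theorem isIso_of_nonempty {A : CommRingCat.{u}} (j : Spec A ⟶ Spec (CommRingCat.of k)) [IsOpenImmersion j]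
    (a : Spec A) : IsIso j := by
  haveI : Surjective j := ⟨fun y => ⟨a, @Subsingleton.elim _ (inferInstanceAs (Subsingleton (PrimeSpectrum k))) _ _⟩⟩
  haveI : Epi j.base := (TopCat.epi_iff_surjective _).2 j.surjective
  exact IsOpenImmersion.isIso j

theorem isField_of_isIso {A : CommRingCat.{u}} (j : Spec A ⟶ Spec (CommRingCat.of k)) [IsIso j] : IsField A := by
  haveI : IsIso (Spec.map (Spec.preimage j)) := by rw [Spec.map_preimage]; infer_instance
  haveI : IsIso (Spec.preimage j) := by
    haveI : IsIso (Scheme.Spec.map (Spec.preimage j).op) := ‹IsIso (Spec.map _)›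
    haveI := isIso_of_fully_faithful Scheme.Spec (Spec.preimage j).op
    exact isIso_of_op _
  exact (asIso (Spec.preimage j)).symm.commRingCatIsoToRingEquiv.toMulEquiv.isField (Field.toIsField k)

theorem smooth_component {C D W : Scheme.{u}} (φ : C ⟶ Spec (CommRingCat.of k)) (i : D ⟶ C)
    (h : IsStrictlySemistable φ i) (e : W ⟶ C) [IsClosedImmersion e] [IsReduced W]
    (hZ : Set.range e ∈ irreducibleComponents (C : Type u)) : Smooth (e ≫ φ) := by
  suffices key : ∀ w : W, ∃ O : W.Opens, w ∈ O ∧ Smooth (O.ι ≫ e ≫ φ) by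
    choose O hO hO' using key
    refine (IsZariskiLocalAtSource.iff_of_iSup_eq_top (P := @Smooth) O ?_).2 hO'
    exact eq_top_iff.2 fun d _ => TopologicalSpace.Opens.mem_iSup.2 ⟨d, hO d⟩
  intro w
  rcases h.2 (e w) with hl | hn
  · obtain ⟨A, j, hj, U, hxU, q, hq, f, fD, hf, hfq, -, -⟩ := hl
    obtain ⟨U', hU', hxU', hle⟩ := exists_isAffineOpen_mem_and_subset hxU
    haveI := hf
    haveI := FibNode.smooth_lineToBase A
    have hs : Smooth (U'.ι ≫ φ) := by
      rw [← C.homOfLE_ι hle, Category.assoc, hq, ← hfq]
      infer_instance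
    refine smooth_component_at φ e hZ w U' hU' hxU' (fun _ => 𝟙 _) (by simp) fun l => ?_
    rw [Category.id_comp]; exact hs
  · obtain ⟨A, j, hj, U, hxU, q, hq, a, f, hf, hfq, -⟩ := hn
    obtain ⟨U', hU', hxU', hle⟩ := exists_isAffineOpen_mem_and_subset hxU
    haveI := hf
    haveI : IsIso j := isIso_of_nonempty j (q ⟨e w, hxU⟩)
    let f' := C.homOfLE hle ≫ f
    have hU'φ : U'.ι ≫ φ = f' ≫ nodeToBase A a ≫ j := by
      rw [← C.homOfLE_ι hle, Category.assoc, hq, ← hfq]
      simp only [f', Category.assoc]
    by_cases ha : a = 0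
    · subst ha
      haveI := FibNode.smooth_lineToBase A
      let V : Fin 2 → Scheme.{u} := fun l => pullback f' (branch A l)
      let g : ∀ l, V l ⟶ (U' : Scheme.{u}) := fun l => pullback.fst f' (branch A l)
      refine smooth_component_at φ e hZ w U' hU' hxU' g ?_ fun l => ?_
      · show Set.range (pullback.fst f' (branch A 0)) ∪ Set.range (pullback.fst f' (branch A 1)) = _
        rw [Scheme.Pullback.range_fst, Scheme.Pullback.range_fst, ← Set.preimage_union, range_branch_union,
          Set.preimage_univ]
      · show Smooth (pullback.fst f' (branch A l) ≫ U'.ι ≫ φ)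
        rw [hU'φ, pullback.condition_assoc, reassoc_of% (branch_comp A l)]
        infer_instance
    · have hu : IsUnit a := isUnit_iff_exists_inv.2 ((isField_of_isIso j).mul_inv_cancel ha)
      haveI : Smooth (nodeToBase A a) := by
        rw [← Scheme.Hom.smoothLocus_eq_top_iff, eq_top_iff]
        intro p _
        refine NodeModel.mem_smoothLocus A a p 0 fun h0 => p.isPrime.ne_top ?_
        refine Ideal.eq_top_of_isUnit_mem _ ?_ (hu.map (algebraMap A (NodeAlg A a)))
        rw [← NodeModel.coord_mul]
        exact p.asIdeal.mul_mem_right _ h0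
      refine smooth_component_at φ e hZ w U' hU' hxU' (fun _ => 𝟙 _) (by simp) fun l => ?_
      rw [Category.id_comp, hU'φ]
      infer_instance

end Groth.Agent.CStk17.SSComp
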